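import Groth.Agent.SerreGenLib.Graph

/-!
# Localising classes of quasi-coherent modules
-/

universe u
open CategoryTheory CategoryTheory.Limits TopologicalSpace Opposite AlgebraicGeometry QCohLib

namespace SerreGenLib
variable {X : Scheme.{u}}

theorem exists_affine_mem (x : X) : ∃ V : X.Opens, IsAffineOpen V ∧ x ∈ V := exists_affine_nhd x

theorem support_subset_of_mono {A B : X.Modules} [Coh.IsQCoh A] [Coh.IsQCoh B] (i : A ⟶ B) [Mono i] :
    CohB1.support A ⊆ CohB1.support B := by
  intro x hx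
  obtain ⟨V, hV, hxV⟩ := exists_affine_mem x
  rw [← mem_support_iff hV hxV] at hx ⊢
  exact Module.support_subset_of_injective (appLin i V) (app_injective_of_mono i V) hx

theorem app_surjective_of_epi {A B : X.Modules} [Coh.IsQCoh A] [Coh.IsQCoh B] (g : A ⟶ B) [Epi g]
    {U : X.Opens} (hU : IsAffineOpen U) : Function.Surjective (g.app U) := by
  have : Coh.IsQCoh (kernel g) := isQCoh_kernel g
  let S : ShortComplex X.Modules := ShortComplex.mk (kernel.ι g) g (kernel.condition g)
  have hS : S.ShortExact :=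
    { exact := ShortComplex.exact_of_f_is_kernel _ (kernelIsKernel g)
      mono_f := inferInstanceAs (Mono (kernel.ι g))
      epi_g := inferInstanceAs (Epi g) }
  exact @app_surjective_of_affine _ S hS (inferInstanceAs (Coh.IsQCoh (kernel g))) U hU

theorem support_subset_of_epi {A B : X.Modules} [Coh.IsQCoh A] [Coh.IsQCoh B] (g : A ⟶ B) [Epi g] :
    CohB1.support B ⊆ CohB1.support A := by
  intro x hx
  obtain ⟨V, hV, hxV⟩ := exists_affine_mem x
  rw [← mem_support_iff hV hxV] at hx ⊢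
  exact Module.support_subset_of_surjective (appLin g V) (app_surjective_of_epi g hV) hx

theorem not_mem_support_of_subsingleton {E : X.Modules} [Coh.IsQCoh E] {U : X.Opens}
    (hU : IsAffineOpen U) (h : ∀ z : Γ(E, U), z = 0) {x : X} (hx : x ∈ U) :
    x ∉ CohB1.support E := by
  rw [← mem_support_iff hU hx, Module.notMem_support_iff']
  exact fun m => ⟨1, fun h1 => (hU.primeIdealOf ⟨x, hx⟩).2.ne_top
    ((Ideal.eq_top_iff_one _).mpr h1), by rw [h m, smul_zero]⟩

section Class
variable (P : ObjectProperty X.Modules)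
  (hSerre : ∀ S : ShortComplex X.Modules, S.ShortExact → Coh.IsQCoh S.X₁ → Coh.IsQCoh S.X₂ →
    Coh.IsQCoh S.X₃ → (P S.X₂ ↔ P S.X₁ ∧ P S.X₃))

include hSerre

theorem prop_sub {A B : X.Modules} [Coh.IsQCoh A] [Coh.IsQCoh B] (i : A ⟶ B) [Mono i] (h : P B) :
    P A :=
  ((hSerre (ShortComplex.mk i (cokernel.π i) (cokernel.condition i))
    { exact := ShortComplex.exact_of_g_is_cokernel _ (cokernelIsCokernel i)
      mono_f := inferInstanceAs (Mono i)
      epi_g := inferInstanceAs (Epi (cokernel.π i)) }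
    ‹_› ‹_› (isQCoh_cokernel i)).mp h).1

theorem prop_quot {A B : X.Modules} [Coh.IsQCoh A] [Coh.IsQCoh B] (g : A ⟶ B) [Epi g] (h : P A) :
    P B :=
  ((hSerre (ShortComplex.mk (kernel.ι g) g (kernel.condition g))
    { exact := ShortComplex.exact_of_f_is_kernel _ (kernelIsKernel g)
      mono_f := inferInstanceAs (Mono (kernel.ι g))
      epi_g := inferInstanceAs (Epi g) }
    (isQCoh_kernel g) ‹_› ‹_›).mp h).2

theorem prop_ext {A B : X.Modules} [Coh.IsQCoh A] [Coh.IsQCoh B] (g : A ⟶ B) [Epi g]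
    (hK : P (kernel g)) (hB : P B) : P A :=
  (hSerre (ShortComplex.mk (kernel.ι g) g (kernel.condition g))
    { exact := ShortComplex.exact_of_f_is_kernel _ (kernelIsKernel g)
      mono_f := inferInstanceAs (Mono (kernel.ι g))
      epi_g := inferInstanceAs (Epi g) }
    (isQCoh_kernel g) ‹_› ‹_›).mpr ⟨hK, hB⟩

theorem prop_ext' {A B : X.Modules} [Coh.IsQCoh A] [Coh.IsQCoh B] (i : A ⟶ B) [Mono i]
    (hA : P A) (hC : P (cokernel i)) : P B :=
  (hSerre (ShortComplex.mk i (cokernel.π i) (cokernel.condition i))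
    { exact := ShortComplex.exact_of_g_is_cokernel _ (cokernelIsCokernel i)
      mono_f := inferInstanceAs (Mono i)
      epi_g := inferInstanceAs (Epi (cokernel.π i)) }
    ‹_› ‹_› (isQCoh_cokernel i)).mpr ⟨hA, hC⟩

variable (hsum : ∀ (ι : Type u) (M : ι → X.Modules), (∀ i, Coh.IsQCoh (M i)) → (∀ i, P (M i)) →
      P (∐ M))

include hsum

theorem prop_zero {E : X.Modules} (hE : IsZero E) : P E := by
  let Z : PEmpty.{u + 1} → X.Modules := fun i => i.elim
  have hZq : ∀ i, Coh.IsQCoh (Z i) := fun i => i.elim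
  have hq : Coh.IsQCoh (∐ Z) := isQCoh_sigma Z hZq
  have hP : P (∐ Z) := hsum _ Z hZq (fun i => i.elim)
  have hz : IsZero (∐ Z) := (IsZero.iff_id_eq_zero _).mpr (Sigma.hom_ext _ _ fun i => i.elim)
  have hEq : Coh.IsQCoh E := isQCoh_of_isZero hE
  have : Mono (0 : E ⟶ ∐ Z) := ⟨fun a b _ => hE.eq_of_tgt a b⟩
  exact prop_sub P hSerre (0 : E ⟶ ∐ Z) hP

/-- The smallest submodule through a family, inside the class. -/
theorem prop_image {ι : Type u} {E : X.Modules} [Coh.IsQCoh E] (G : ι → X.Modules)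
    (f : ∀ i, G i ⟶ E) (hq : ∀ i, Coh.IsQCoh (G i)) (hP : ∀ i, P (G i)) :
    ∃ (I : X.Modules) (j : I ⟶ E), Mono j ∧ Coh.IsQCoh I ∧ P I ∧
      ∀ i, ∃ φ : G i ⟶ I, φ ≫ j = f i := by
  have : Coh.IsQCoh (∐ G) := isQCoh_sigma G hq
  let d : ∐ G ⟶ E := Sigma.desc f
  have : Coh.IsQCoh (Abelian.image d) := isQCoh_image d
  exact ⟨Abelian.image d, Abelian.image.ι d, inferInstance, this,
    prop_quot P hSerre (Abelian.factorThruImage d) (hsum ι G hq hP),
    fun i => ⟨Sigma.ι G i ≫ Abelian.factorThruImage d, by simp [d]⟩⟩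

variable [QuasiSeparatedSpace X] {F : X.Modules} [Coh.IsQCoh F] (hPF : P F) {U : X.Opens}
  (hU : IsAffineOpen U) (T : Set X)
  (hv : ∀ E : X.Modules, Coh.IsQCoh E → CohB1.support E ⊆ T → (∀ x ∈ U, x ∉ CohB1.support E) → P E)

include hPF hU hv

/-- A section killed by the annihilator lifts to the class. -/
theorem exists_lift_killed [Module.Finite Γ(X, U) Γ(F, U)] {E : X.Modules} [Coh.IsQCoh E]
    (hET : CohB1.support E ⊆ T) (s : Γ(E, U))
    (hs : ∀ a ∈ Module.annihilator Γ(X, U) Γ(F, U), a • s = 0) :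
    ∃ (G : X.Modules) (f : G ⟶ E), Coh.IsQCoh G ∧ P G ∧ ∃ z, f.app U z = s := by
  classical
  obtain ⟨n, m, hm⟩ := Module.Finite.exists_fin (R := Γ(X, U)) (M := Γ(F, U))
  let Fs : ULift.{u} (Fin n) → X.Modules := fun _ => F
  let K : X.Modules := ∐ Fs
  have hK : Coh.IsQCoh K := isQCoh_sigma Fs fun _ => ‹_›
  have hPK : P K := hsum _ Fs (fun _ => ‹_›) fun _ => hPF
  let w : Γ(K, U) := ∑ j : ULift.{u} (Fin n), (Sigma.ι Fs j).app U (m j.down)
  let π : ULift.{u} (Fin n) → (K ⟶ F) := fun j => Sigma.desc fun i => if i = j then 𝟙 F else 0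
  have hπ : ∀ j, (π j).app U w = m j.down := fun j => by
    change (π j).app U (∑ i, (Sigma.ι Fs i).app U (m i.down)) = _
    rw [map_sum, Finset.sum_eq_single j]
    · refine (congr_arg (fun φ : F ⟶ F => φ.app U (m j.down))
        (show Sigma.ι Fs j ≫ π j = 𝟙 F by simp [π, Fs]))
    · intro i _ hi
      exact (congr_arg (fun φ : F ⟶ F => φ.app U (m i.down))
        (show Sigma.ι Fs i ≫ π j = 0 by simp [π, Fs, hi]))
    · exact fun h => absurd (Finset.mem_univ j) h
  have : Coh.IsQCoh (K ⊞ E) := isQCoh_biprod K E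
  let z : Γ(K ⊞ E, U) := (biprod.inl : K ⟶ K ⊞ E).app U w + (biprod.inr : E ⟶ K ⊞ E).app U s
  have hz1 : (biprod.fst : K ⊞ E ⟶ K).app U z = w := by
    simp only [z, map_add]
    refine (congr_arg₂ (· + ·)
      (congr_arg (fun φ : K ⟶ K => φ.app U w) (biprod.inl_fst (X := K) (Y := E)))
      (congr_arg (fun φ : E ⟶ K => φ.app U s) (biprod.inr_fst (X := K) (Y := E)))).trans ?_
    exact add_zero w
  have hz2 : (biprod.snd : K ⊞ E ⟶ E).app U z = s := by
    simp only [z, map_add]
    refine (congr_arg₂ (· + ·)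
      (congr_arg (fun φ : K ⟶ E => φ.app U w) (biprod.inl_snd (X := K) (Y := E)))
      (congr_arg (fun φ : E ⟶ E => φ.app U s) (biprod.inr_snd (X := K) (Y := E)))).trans ?_
    exact zero_add s
  let S := spanOne (K ⊞ E) U z
  let G := S.toModules
  have hG : Coh.IsQCoh G := isQCoh_spanOne (K ⊞ E) U hU z
  let p : G ⟶ K := S.ι ≫ biprod.fst
  let f : G ⟶ E := S.ι ≫ biprod.snd
  have hI : Coh.IsQCoh (Abelian.image p) := isQCoh_image p
  have hPI : P (Abelian.image p) := prop_sub P hSerre (Abelian.image.ι p) hPK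
  let κ := kernel.ι (Abelian.factorThruImage p)
  have : Coh.IsQCoh (kernel (Abelian.factorThruImage p)) := isQCoh_kernel _
  have hκp : κ ≫ p = 0 := by
    refine (congr_arg (κ ≫ ·) (Abelian.image.fac p).symm).trans ?_
    exact (kernel.condition_assoc (Abelian.factorThruImage p) _).trans zero_comp
  have hmono : Mono (κ ≫ f) := Preadditive.mono_of_cancel_zero _ fun {Y} h hh => by
    have h0 : (h ≫ κ) ≫ S.ι = 0 := by
      apply biprod.hom_ext
      · rw [zero_comp, Category.assoc, Category.assoc]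
        exact (congr_arg (h ≫ ·) hκp).trans comp_zero
      · rw [zero_comp]
        simpa only [f, Category.assoc] using hh
    rw [← cancel_mono κ, ← cancel_mono S.ι, h0, zero_comp, zero_comp]
  refine ⟨G, f, hG, prop_ext P hSerre (Abelian.factorThruImage p) (hv _ ‹_›
    ((support_subset_of_mono (κ ≫ f)).trans hET) fun x hxU => not_not.mpr ?_) hPI,
    S.lift z (LocSub.span_self _ ⟨0⟩), hz2⟩
  refine (subsingleton_stalk_iff _ x).mpr fun V hxV t => ?_
  obtain ⟨g, hgV, hxg⟩ := exists_basicOpen_nhd hU hxV hxU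
  refine ⟨X.basicOpen g, hgV, hxg, ?_⟩
  set y := (kernel (Abelian.factorThruImage p)).presheaf.map (homOfLE hgV).op t
  apply app_injective_of_mono (κ ≫ f) (X.basicOpen g)
  rw [map_zero]
  obtain ⟨r, hr⟩ := exists_smul_of_mem (hU.basicOpen g) (X.basicOpen_le g)
    (S.ι_app_mem (κ.app _ y))
  have h1 : r • K.presheaf.map (homOfLE (X.basicOpen_le g)).op w = 0 := by
    rw [← hz1, ← app_map, ← app_smul, ← hr]
    exact congr_arg (fun φ : kernel (Abelian.factorThruImage p) ⟶ K => φ.app _ y) hκp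
  have h2 : r • E.presheaf.map (homOfLE (X.basicOpen_le g)).op s = 0 :=
    smul_eq_zero_of_generators hU m hm s hs g r fun j => by
      rw [← hπ ⟨j⟩, ← app_map, ← app_smul, h1, map_zero]
  change (biprod.snd : K ⊞ E ⟶ E).app _ (S.ι.app _ (κ.app _ y)) = 0
  rw [hr, app_smul, app_map, hz2]
  exact h2

/-- Modules killed on `U` by a power of the annihilator lie in the class. -/
theorem prop_of_killed [Module.Finite Γ(X, U) Γ(F, U)] (N : ℕ) :
    ∀ (E : X.Modules), Coh.IsQCoh E → CohB1.support E ⊆ T →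
      (∀ a ∈ Module.annihilator Γ(X, U) Γ(F, U) ^ N, ∀ z : Γ(E, U), a • z = 0) → P E := by
  induction N with
  | zero =>
    intro E hE hET hk
    refine hv E hE hET fun x hx => not_mem_support_of_subsingleton hU (fun z => ?_) hx
    rw [← one_smul Γ(X, U) z]
    exact hk 1 (by simp) z
  | succ N ih =>
    intro E hE hET hk
    let ι := {s : Γ(E, U) // ∀ a ∈ Module.annihilator Γ(X, U) Γ(F, U), a • s = 0}
    choose G f hGq hGP z hz using fun s : ι =>
      exists_lift_killed P hSerre hsum hPF hU T hv hET s.1 s.2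
    obtain ⟨I, j, hj, hIq, hIP, hφ⟩ := prop_image P hSerre hsum G f hGq hGP
    have hQ : Coh.IsQCoh (cokernel j) := isQCoh_cokernel j
    refine prop_ext' P hSerre j hIP (ih _ hQ ((support_subset_of_epi (cokernel.π j)).trans hET)
      fun a ha q => ?_)
    obtain ⟨y, rfl⟩ := app_surjective_of_epi (cokernel.π j) hU q
    obtain ⟨φ, hφ'⟩ := hφ ⟨a • y, fun b hb => by
      rw [← mul_smul]
      exact hk _ (by rw [pow_succ']; exact Ideal.mul_mem_mul hb ha) y⟩
    rw [← app_smul]
    refine ((congr_arg ((cokernel.π j).app U) ((congr_arg (fun θ : G _ ⟶ E => θ.app U _) hφ').trans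
      (hz _)).symm).trans ?_)
    exact congr_arg (fun θ : I ⟶ cokernel j => θ.app U (φ.app U _)) (cokernel.condition j)

/-- The step across an affine open. -/
theorem prop_step [Module.FinitePresentation Γ(X, U) Γ(F, U)] (hT : T ⊆ CohB1.support F)
    (E : X.Modules) (hE : Coh.IsQCoh E) (hET : CohB1.support E ⊆ T) : P E := by
  have hsupp : Module.support Γ(X, U) Γ(E, U) ⊆ Module.support Γ(X, U) Γ(F, U) := by
    intro q hq
    have hx : hU.fromSpec q ∈ U := hU.range_fromSpec.le ⟨q, rfl⟩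
    have hp : hU.primeIdealOf ⟨hU.fromSpec q, hx⟩ = q :=
      hU.fromSpec.isOpenEmbedding.injective (hU.fromSpec_primeIdealOf _)
    rw [← hp, mem_support_iff hU hx] at hq ⊢
    exact hT (hET hq)
  let G : Γ(E, U) → X.Modules := fun s => (spanOne E U s).toModules
  have hGq : ∀ s, Coh.IsQCoh (G s) := fun s => isQCoh_spanOne E U hU s
  have hGP : ∀ s, P (G s) := fun s => by
    obtain ⟨k, hk⟩ := exists_annihilator_pow_smul Γ(F, U) hsupp s
    have := hGq s
    refine prop_of_killed P hSerre hsum hPF hU T hv k (G s) (hGq s)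
      ((support_subset_of_mono (spanOne E U s).ι).trans hET) fun a ha z => ?_
    apply (spanOne E U s).ι_app_injective U
    obtain ⟨r, hr⟩ := exists_smul_of_mem hU le_rfl ((spanOne E U s).ι_app_mem z)
    rw [map_zero, app_smul, hr, smul_comm,
      show E.presheaf.map (homOfLE (le_refl U)).op s = s from
        ConcreteCategory.congr_hom (E.presheaf.map_id (op U)) s, hk a ha, smul_zero]
  obtain ⟨I, j, hj, hIq, hIP, hφ⟩ :=
    prop_image P hSerre hsum G (fun s => (spanOne E U s).ι) hGq hGP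
  have hQ : Coh.IsQCoh (cokernel j) := isQCoh_cokernel j
  refine prop_ext' P hSerre j hIP (hv _ hQ ((support_subset_of_epi (cokernel.π j)).trans hET)
    fun x hx => not_mem_support_of_subsingleton hU (fun q => ?_) hx)
  obtain ⟨y, rfl⟩ := app_surjective_of_epi (cokernel.π j) hU q
  obtain ⟨φ, hφ'⟩ := hφ y
  have h1 := congr_arg (fun θ : G y ⟶ E => θ.app U
    ((spanOne E U y).lift y (LocSub.span_self _ ⟨0⟩))) hφ'
  refine ((congr_arg ((cokernel.π j).app U) h1.symm).trans ?_)
  exact congr_arg (fun θ : I ⟶ cokernel j => θ.app U (φ.app U _)) (cokernel.condition j)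

end Class

/-- Quasi-coherent modules supported in `Supp F` lie in every localising class containing `F`. -/
theorem prop_of_support_subset [CompactSpace X] [QuasiSeparatedSpace X]
    {F : X.Modules} [Coh.IsQCoh F] (hF : CohB1.IsFP F)
    (P : ObjectProperty X.Modules) (hPF : P F)
    (hSerre : ∀ S : ShortComplex X.Modules, S.ShortExact → Coh.IsQCoh S.X₁ → Coh.IsQCoh S.X₂ →
      Coh.IsQCoh S.X₃ → (P S.X₂ ↔ P S.X₁ ∧ P S.X₃))
    (hsum : ∀ (ι : Type u) (M : ι → X.Modules), (∀ i, Coh.IsQCoh (M i)) → (∀ i, P (M i)) →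
      P (∐ M))
    (E : X.Modules) (hE : Coh.IsQCoh E) (hsupp : CohB1.support E ⊆ CohB1.support F) : P E := by
  classical
  have key : ∀ t : Finset X.affineOpens, ∀ E : X.Modules, Coh.IsQCoh E →
      CohB1.support E ⊆ CohB1.support F ∩ ⋃ V ∈ t, (V.1 : Set X) → P E := by
    intro t
    induction t using Finset.induction_on with
    | empty =>
      intro E hE hs
      refine prop_zero P hSerre hsum ((IsZero.iff_id_eq_zero E).mpr ?_)
      apply Scheme.Modules.hom_ext
      intro W
      refine ConcreteCategory.hom_ext _ _ fun w => ?_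
      refine TopCat.Presheaf.section_ext ((toAbF X).obj E : TopCat.Sheaf AddCommGrpCat _)
        W _ _ fun q hq => (not_not.mp fun h => by simpa using (hs h).2 :
          Subsingleton (E.presheaf.stalk q)).elim _ _
    | insert V t hVt ih =>
      intro E hE hs
      have := FittLib.finitePresentation_affine F hF V.2
      refine prop_step P hSerre hsum hPF V.2 _ (fun E' hE' hT hV => ih E' hE' fun x hx => ?_)
        Set.inter_subset_left E hE hs
      refine ⟨(hT hx).1, ?_⟩
      obtain ⟨W, hW, hxW⟩ := Set.mem_iUnion₂.mp (hT hx).2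
      rcases Finset.mem_insert.mp hW with rfl | hW
      · exact absurd hx (hV x hxW)
      · exact Set.mem_iUnion₂.mpr ⟨W, hW, hxW⟩
  obtain ⟨t, ht⟩ : ∃ t : Finset X.affineOpens, (Set.univ : Set X) ⊆ ⋃ V ∈ t, (V.1 : Set X) :=
    isCompact_univ.elim_finite_subcover (fun V : X.affineOpens => (V.1 : Set X))
      (fun V => V.1.isOpen) (fun p _ => by
        obtain ⟨V, hV, hp⟩ := exists_affine_nhd p
        exact Set.mem_iUnion.mpr ⟨⟨V, hV⟩, hp⟩)
  exact key t E hE fun x hx => ⟨hsupp hx, ht (Set.mem_univ x)⟩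

end SerreGenLib
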