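import Groth.Agent.QCohLib.FTCrit
import Groth.Agent.FittLib.Sheaf
import Groth.Agent.FittLib.BaseChange

/-!
# Submodules generated on an affine open, and annihilators
-/

universe u
open CategoryTheory CategoryTheory.Limits TopologicalSpace Opposite AlgebraicGeometry QCohLib

namespace SerreGenLib
variable {X : Scheme.{u}}

/-- A single generator on `U`. -/
noncomputable abbrev spanOne (E : X.Modules) (U : X.Opens) (z : Γ(E, U)) : LocSub E :=
  LocSub.span E U (fun _ : ULift.{u} (Fin 1) => z)

theorem canon_spanOne (E : X.Modules) (U : X.Opens) (z : Γ(E, U)) :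
    LocSub.Canon (spanOne E U z) U := fun W a ha p hp hpU => by
  obtain ⟨O, hO, hOU, hpO, c, hc⟩ := ha p ⟨hp, hpU⟩ hpU
  rw [map_map'] at hc
  exact ⟨O, hO.trans inf_le_left, hOU, hpO, c, hc⟩

theorem isQCoh_spanOne [QuasiSeparatedSpace X] (E : X.Modules) [Coh.IsQCoh E] (U : X.Opens)
    (hU : IsAffineOpen U) (z : Γ(E, U)) : Coh.IsQCoh (spanOne E U z).toModules := by
  let S := spanOne E U z
  have hc : LocSub.Canon S U := canon_spanOne E U z
  have hft : LocSub.FTBelow S U := fun p hp =>
    ⟨U, le_rfl, hp, 1, fun _ => z, fun i => LocSub.span_self _ i, fun W _ a ha => ha⟩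
  rw [isQCoh_iff_localizingAt]
  intro W hW g
  refine ⟨fun w => ?_, fun w hw => ?_⟩
  · obtain ⟨N, t, ht⟩ := (localizingAt_of_isQCoh hW E g).exists_extend (S.ι.app _ w)
    obtain ⟨k, hk⟩ := LocSub.exists_pow_smul_mem S hc hft hW
      (QuasiSeparatedSpace.inter_isCompact _ _ W.isOpen hW.isCompact U.isOpen hU.isCompact) g t (by
        have h1 := S.res (inf_le_left : X.basicOpen g ⊓ U ≤ X.basicOpen g)
          (ht ▸ S.smul _ (S.ι_app_mem w))
        rw [map_map'] at h1
        exact h1)
    refine ⟨k + N, S.lift _ hk, S.ι_app_injective _ ?_⟩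
    rw [app_map, LocSub.ι_lift, app_smul, map_smul', ht, map_pow, ← mul_smul, ← pow_add]
  · obtain ⟨N, hN⟩ := (localizingAt_of_isQCoh hW E g).eq_zero (S.ι.app _ w)
      (by rw [← app_map, hw, map_zero])
    exact ⟨N, S.ι_app_injective _ (by rw [app_smul, hN, map_zero])⟩

theorem exists_smul_of_mem {E : X.Modules} [Coh.IsQCoh E] {U D : X.Opens} (hD : IsAffineOpen D)
    (hDU : D ≤ U) {z : Γ(E, U)} {a : Γ(E, D)} (ha : (spanOne E U z).mem D a) :
    ∃ r : Γ(X, D), a = r • E.presheaf.map (homOfLE hDU).op z := by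
  obtain ⟨c, hc⟩ := LocSub.exists_eq_sum hD hDU ha
  exact ⟨c ⟨0⟩, by rw [hc, Fintype.sum_unique]; rfl⟩

/-- If `Ann M` kills a section then relations of generators of `M` on a basic open do so. -/
theorem smul_eq_zero_of_generators {M E : X.Modules} [Coh.IsQCoh M] [Coh.IsQCoh E] {U : X.Opens}
    (hU : IsAffineOpen U) {n : ℕ} (m : Fin n → Γ(M, U))
    (hm : Submodule.span Γ(X, U) (Set.range m) = ⊤) (s : Γ(E, U))
    (hs : ∀ a ∈ Module.annihilator Γ(X, U) Γ(M, U), a • s = 0) (g : Γ(X, U))
    (r : Γ(X, X.basicOpen g))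
    (hr : ∀ j, r • M.presheaf.map (homOfLE (X.basicOpen_le g)).op (m j) = 0) :
    r • E.presheaf.map (homOfLE (X.basicOpen_le g)).op s = 0 := by
  classical
  let ρ := X.presheaf.map (homOfLE (X.basicOpen_le g)).op
  letI : Algebra Γ(X, U) Γ(X, X.basicOpen g) := ρ.hom.toAlgebra
  haveI : IsLocalization.Away g Γ(X, X.basicOpen g) := hU.isLocalization_basicOpen g
  obtain ⟨⟨r', ⟨_, k, rfl⟩⟩, hr'⟩ := IsLocalization.surj (Submonoid.powers g) r
  change r * ρ (g ^ k) = ρ r' at hr'
  have hex : ∀ j, ∃ l : ℕ, g ^ l • (r' • m j) = 0 := fun j => by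
    obtain ⟨l, hl⟩ := (localizingAt_of_isQCoh hU M g).eq_zero (r' • m j) (by
      rw [map_smul']
      change ρ r' • _ = 0
      rw [← hr', mul_comm, mul_smul, hr, smul_zero])
    exact ⟨l, by simpa using hl⟩
  choose l hl using hex
  let L := Finset.univ.sup l
  have hann : g ^ L * r' ∈ Module.annihilator Γ(X, U) Γ(M, U) := by
    rw [← Submodule.annihilator_top, ← hm, Submodule.mem_annihilator_span]
    rintro ⟨_, j, rfl⟩
    change (g ^ L * r') • m j = 0
    have hj : l j ≤ L := Finset.le_sup (f := l) (Finset.mem_univ j)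
    rw [mul_smul, ← Nat.sub_add_cancel hj, pow_add, mul_smul, hl, smul_zero]
  have h0 := congr_arg (E.presheaf.map (homOfLE (X.basicOpen_le g)).op) (hs _ hann)
  rw [map_smul', map_zero] at h0
  change ρ (g ^ L * r') • _ = 0 at h0
  rw [map_mul, ← hr', show ρ (g ^ L) * (r * ρ (g ^ k)) = ρ (g ^ (L + k)) * r by
    rw [pow_add, map_mul]; ring, mul_smul, map_pow] at h0
  obtain ⟨v, hv⟩ := (isUnit_res g (le_refl (X.basicOpen g))).pow (L + k)
  change (v : Γ(X, X.basicOpen g)) = ρ g ^ (L + k) at hv
  rw [← hv] at h0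
  have := congr_arg (fun z => (↑v⁻¹ : Γ(X, X.basicOpen g)) • z) h0
  simpa only [← mul_smul, Units.inv_mul_cancel_left, smul_zero] using this

theorem annihilator_pow_le_fitting {R : Type u} [CommRing R] {M : Type u} [AddCommGroup M]
    [Module R M] {n : ℕ} (x : Fin n → M) (hx : Submodule.span R (Set.range x) = ⊤) :
    Module.annihilator R M ^ n ≤ Fitt.ideal R M 0 := by
  classical
  have h : Module.annihilator R M ^ n =
      ∏ _i : Fin n, Ideal.span (Module.annihilator R M : Set R) := by
    rw [Ideal.span_eq, Finset.prod_const, Finset.card_univ, Fintype.card_fin]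
  rw [h, Ideal.prod_span, Ideal.span_le]
  intro d hd
  obtain ⟨c, hc, rfl⟩ := (Set.mem_fintype_prod _ _).mp hd
  refine Ideal.subset_span ⟨n, x, Matrix.diagonal c, hx, fun i _ => ?_, by rw [Matrix.det_diagonal]⟩
  refine (Finset.sum_eq_single i (fun j _ hj => by rw [Matrix.diagonal_apply_ne _ hj.symm, zero_smul])
    (fun h => absurd (Finset.mem_univ i) h)).trans ?_
  rw [Matrix.diagonal_apply_eq]
  exact Module.mem_annihilator.mp (hc i) _

/-- A section supported in the support of `M` is killed by a power of `Ann M`. -/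
theorem exists_annihilator_pow_smul {R : Type u} [CommRing R] (M : Type u) [AddCommGroup M]
    [Module R M] [Module.FinitePresentation R M] {N : Type u} [AddCommGroup N] [Module R N]
    (h : Module.support R N ⊆ Module.support R M) (s : N) :
    ∃ k : ℕ, ∀ a ∈ Module.annihilator R M ^ k, a • s = 0 := by
  obtain ⟨n, x, hx⟩ := Module.Finite.exists_fin (R := R) (M := M)
  let S : Submodule R N := Submodule.span R {s}
  have hfg : Module.Finite R S := Module.Finite.iff_fg.mpr (Submodule.fg_span_singleton s)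
  have hle : Fitt.ideal R M 0 ≤ (Module.annihilator R S).radical := by
    rw [← PrimeSpectrum.zeroLocus_subset_zeroLocus_iff]
    rw [← Module.support_eq_zeroLocus, FittLib.zeroLocus_ideal_zero]
    exact (Module.support_subset_of_injective S.subtype S.subtype_injective).trans h
  obtain ⟨k, hk⟩ := Ideal.exists_pow_le_of_le_radical_of_fg hle (FittLib.ideal_fg 0)
  refine ⟨n * k, fun a ha => ?_⟩
  rw [pow_mul] at ha
  have h1 := hk (Ideal.pow_right_mono (annihilator_pow_le_fitting x hx) k ha)
  exact congr_arg Subtype.val (Module.mem_annihilator.mp h1 ⟨s, Submodule.mem_span_singleton_self s⟩)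

end SerreGenLib
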